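import Cfsg.Agent.H953.HTA.E

/-!
# Half-transitive linear groups with a normal quasisimple subgroup over `A_n`, `n ≥ 9`: the row (helper953, S3512)

`alt_row` : if `p` divides `|G|` then `G` is transitive.
-/

set_option autoImplicit false
set_option linter.unusedSectionVars false

universe u w

namespace Cfsg.Agent.H953.HTA

open scoped commutatorElement

open Equiv Equiv.Perm Module Cfsg.Agent.H614.AMod Cfsg.Agent.H828.HT Cfsg.Agent.H742.HT Cfsg.Agent.H391.HT
  Cfsg.Agent.H192.Ht Cfsg.Agent.H964.AltMod

variable {p : ℕ} [hp : Fact p.Prime] {K : Type w} [Field K] {V : Type u} [AddCommGroup V] [Module (ZMod p) V] [Finite V]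
    [Module K V] {G L : Subgroup (V ≃ₗ[ZMod p] V)} {h : ℕ}

/-- central elements are scalars -/
theorem center_scalar (H : QL p K V G L h) {k : L} (hk : k ∈ Subgroup.center L) : ∃ c : K, ∀ v, act H k v = c • v := by
  refine H.endo ((k : V ≃ₗ[ZMod p] V) : V →ₗ[ZMod p] V) fun l hl v => ?_
  have h1 := congrArg Subtype.val (Subgroup.mem_center_iff.1 hk ⟨l, hl⟩)
  have h2 : l * (k : V ≃ₗ[ZMod p] V) = k * l := h1
  exact (LinearEquiv.congr_fun h2 v).symm

/-- central elements are `± 1` -/
theorem center_pm (H : QL p K V G L h) {n : ℕ} (hn : 9 ≤ n) (e : (L ⧸ Subgroup.center L) ≃* alternatingGroup (Fin n))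
    {k : L} (hk : k ∈ Subgroup.center L) : k = 1 ∨ ∀ v, act H k v = -v := by
  obtain ⟨c, hc⟩ := center_scalar H hk
  obtain ⟨v, hv⟩ := QN.exists_ne H
  have h1 := center_sq H hn e hk
  have h2 : (c * c) • v = v := by
    have h3 : act H (k ^ 2) v = v := by rw [h1, map_one]; rfl
    rw [pow_two, map_mul, End.mul_apply, hc, hc, smul_smul] at h3
    exact h3
  have h3 : c * c = 1 := by
    have h4 : (c * c - 1) • v = 0 := by rw [sub_smul, one_smul, h2, sub_self]
    exact sub_eq_zero.1 ((smul_eq_zero.1 h4).resolve_right hv)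
  rcases mul_self_eq_one_iff.1 h3 with h4 | h4
  · left
    apply act_injective H
    rw [map_one]
    apply LinearMap.ext
    intro v
    rw [hc, h4, one_smul]
    rfl
  · right
    intro v
    rw [hc, h4, neg_smul, one_smul]

theorem center_two (H : QL p K V G L h) (hp2 : p = 2) {n : ℕ} (hn : 9 ≤ n)
    (e : (L ⧸ Subgroup.center L) ≃* alternatingGroup (Fin n)) : Subgroup.center L = ⊥ := by
  rw [eq_bot_iff]
  intro k hk
  rw [Subgroup.mem_bot]
  rcases center_pm H hn e hk with h1 | h1
  · exact h1
  · apply act_injective H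
    rw [map_one]
    apply LinearMap.ext
    intro v
    rw [h1]
    show -v = v
    have h2 : (2 : ℕ) • v = 0 := by
      rw [← Nat.cast_smul_eq_nsmul (ZMod p), ← hp2, ZMod.natCast_self, zero_smul]
    rw [two_nsmul] at h2
    exact neg_eq_of_add_eq_zero_left h2

/-- no double covers in degree 12, characteristic 3 -/
theorem center_three (H : QL p K V G L h) (hp3 : p = 3) {n : ℕ} (hn : 10 ≤ n)
    (e : (L ⧸ Subgroup.center L) ≃* alternatingGroup (Fin n)) (hd : finrank K V = 12) : Subgroup.center L = ⊥ := by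
  classical
  have hchp : CharP K 3 := by rw [← hp3]; exact charP H
  have := QN.finiteDim H
  rw [eq_bot_iff]
  intro z hz
  rw [Subgroup.mem_bot]
  by_contra hz1
  have hm := (center_pm H (by omega) e hz).resolve_left hz1
  have hker : ∀ x, pr e x = 1 ↔ x = 1 ∨ x = z := by
    intro x
    rw [pr_eq_one]
    constructor
    · intro hx
      rcases center_pm H (by omega) e hx with h1 | h1
      · exact Or.inl h1
      · right
        apply act_injective H
        apply LinearMap.ext
        intro v
        rw [h1, hm]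
    · rintro (rfl | rfl)
      · exact Subgroup.one_mem _
      · exact hz
  have hcov : SporadicRecognition.AltCover.IsCover (pr e) z :=
    { z_ne := hz1
      z_mul := by rw [← pow_two]; exact center_sq H (by omega) e hz
      z_comm := fun x => Subgroup.mem_center_iff.1 hz x
      surj := pr_surj e
      ker := hker
      nonsplit := by
        intro s hs
        have h1 : commutator L ≤ s.range := by
          rw [commutator_def, Subgroup.commutator_le]
          intro x _ y _
          have key : ∀ x : L, ∃ k ∈ Subgroup.center L, x = s (pr e x) * k := by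
            intro x
            refine ⟨(s (pr e x))⁻¹ * x, ?_, by group⟩
            rw [← pr_eq_one e, map_mul, map_inv, hs, inv_mul_cancel]
          obtain ⟨k, hk, hxk⟩ := key x
          obtain ⟨k', hk', hyk⟩ := key y
          refine ⟨⁅pr e x, pr e y⁆, ?_⟩
          rw [map_commutatorElement]
          conv_rhs => rw [hxk, hyk]
          have c1 := fun g => Subgroup.mem_center_iff.1 hk g
          have c2 := fun g => Subgroup.mem_center_iff.1 hk' g
          rw [commutatorElement_def, commutatorElement_def, mul_inv_rev, mul_inv_rev]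
          have e1 : s ((pr e) x) * k * (s ((pr e) y) * k') * (k⁻¹ * (s ((pr e) x))⁻¹) * (k'⁻¹ * (s ((pr e) y))⁻¹) =
              s ((pr e) x) * (k * (s ((pr e) y) * k') * k⁻¹) * (s ((pr e) x))⁻¹ * (k'⁻¹ * (s ((pr e) y))⁻¹) := by
            group
          rw [e1, ← c1, mul_inv_cancel_right]
          have e2 : s ((pr e) x) * (s ((pr e) y) * k') * (s ((pr e) x))⁻¹ * (k'⁻¹ * (s ((pr e) y))⁻¹) =
              s ((pr e) x) * s ((pr e) y) * (k' * (s ((pr e) x))⁻¹) * (k'⁻¹ * (s ((pr e) y))⁻¹) := by
            group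
          rw [e2, ← c2]
          group
        rw [H.perf] at h1
        obtain ⟨x, hx⟩ := h1 (Subgroup.mem_top z)
        apply hz1
        have h3 := hs x
        rw [hx, (hker z).2 (Or.inr rfl)] at h3
        rw [← hx, ← h3, map_one] }
  let K0 := SporRec.TwoAn.ofIsCover (n := n) (by omega) hcov
  -- extension of scalars
  let b := finBasis K V
  let θ : L →* Matrix (Fin (finrank K V)) (Fin (finrank K V)) K :=
    (LinearMap.toMatrixAlgEquiv b).toAlgHom.toRingHom.toMonoidHom.comp (act H)
  have hch : CharP (AlgebraicClosure K) 3 := charP_of_injective_algebraMap (algebraMap K _).injective 3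
  let σK : L →* End (AlgebraicClosure K) (Fin (finrank K V) → AlgebraicClosure K) :=
    (Matrix.toLinAlgEquiv' (R := AlgebraicClosure K) (n := Fin (finrank K V))).toAlgHom.toRingHom.toMonoidHom.comp
      ((algebraMap K (AlgebraicClosure K)).mapMatrix.toMonoidHom.comp θ)
  have hθ : θ z = -1 := by
    show LinearMap.toMatrixAlgEquiv b (act H z) = -1
    have h1 : act H z = -1 := LinearMap.ext fun v => hm v
    rw [h1, map_neg, map_one]
  have hσ : ∀ v, σK z v = -v := by
    intro v
    show (((θ z).map (algebraMap K (AlgebraicClosure K))).mulVec v) = -v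
    rw [hθ, ← RingHom.mapMatrix_apply, map_neg, map_one, Matrix.neg_mulVec, Matrix.one_mulVec]
  have h2 : (2 : AlgebraicClosure K) ≠ 0 := by
    intro h0
    have h1 : ((2 : ℕ) : AlgebraicClosure K) = 0 := by exact_mod_cast h0
    exact absurd ((CharP.cast_eq_zero_iff _ 3 2).1 h1) (by norm_num)
  have h5 : (5 : AlgebraicClosure K) ≠ 0 := by
    intro h0
    have h1 : ((5 : ℕ) : AlgebraicClosure K) = 0 := by exact_mod_cast h0
    exact absurd ((CharP.cast_eq_zero_iff _ 3 5).1 h1) (by norm_num)
  have hnt : Nontrivial (Fin (finrank K V) → AlgebraicClosure K) := by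
    rw [hd]
    infer_instance
  have h6 := H189.AltSpinLow.spin_mono (H189.AltSpinLow.spin_ten h2 h5) hn L K0 _ σK hσ hnt
  rw [finrank_fin_fun, hd] at h6
  omega

/-- the equivalence with `A_n` -/
theorem exists_iso {n : ℕ} (e : (L ⧸ Subgroup.center L) ≃* alternatingGroup (Fin n))
    (hc : Subgroup.center L = ⊥) : ∃ ψ : L ≃* alternatingGroup (Fin n), ∀ l, ψ l = pr e l :=
  ⟨MulEquiv.ofBijective (pr e) ⟨(injective_iff_map_eq_one _).2 fun k hk => by
    rw [pr_eq_one, hc] at hk
    exact Subgroup.mem_bot.1 hk, pr_surj e⟩, fun _ => rfl⟩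

/-- irreducibility over `K` -/
theorem irrK (H : QL p K V G L h) {n : ℕ} (ψ : L ≃* alternatingGroup (Fin n)) :
    Irr (((act H).comp ψ.symm.toMonoidHom : alternatingGroup (Fin n) →* End K V) :
      Representation K (alternatingGroup (Fin n)) V) := by
  intro W hW
  rcases H.irr (AddSubgroup.toZModSubmodule p W.toAddSubgroup) (by
    intro l hl v hv
    have h1 := hW (ψ ⟨l, hl⟩) v hv
    have h2 : act H (ψ.symm (ψ ⟨l, hl⟩)) v ∈ W := h1
    rw [ψ.symm_apply_apply] at h2
    exact h2) with h1 | h1
  · left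
    rw [eq_bot_iff]
    intro v hv
    have h2 : v ∈ AddSubgroup.toZModSubmodule p W.toAddSubgroup := hv
    rw [h1, Submodule.mem_bot] at h2
    rw [Submodule.mem_bot]
    exact h2
  · right
    rw [eq_top_iff]
    intro v _
    have h2 : v ∈ AddSubgroup.toZModSubmodule p W.toAddSubgroup := by rw [h1]; trivial
    exact h2

/-- **degree 12** -/
theorem no_12 (H : QL p K V G L h) {n m : ℕ} (hn : 9 ≤ n) (hn' : n ≤ 14) (hm : m * h = Nat.card G)
    (e : (L ⧸ Subgroup.center L) ≃* alternatingGroup (Fin n)) (hp23 : p = 2 ∨ (p = 3 ∧ 10 ≤ n)) (hd : finrank K V = 12)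
    (h11 : ¬ 11 ∣ m) : False := by
  classical
  have hch := charP H
  have hfd := QN.finiteDim H
  have hc : Subgroup.center L = ⊥ := by
    rcases hp23 with h2 | ⟨h3, h10⟩
    · exact center_two H h2 hn e
    · exact center_three H h3 h10 e hd
  obtain ⟨ψ, hψ⟩ := exists_iso e hc
  let ρ : Representation K (alternatingGroup (Fin n)) V := (act H).comp ψ.symm.toMonoidHom
  have hρ : ∀ g v, ρ g v = act H (ψ.symm g) v := fun g v => rfl
  have hirr : Irr ρ := irrK H ψ
  obtain ⟨g₀, v₀, hne⟩ : ∃ (g₀ : alternatingGroup (Fin n)) (v₀ : V), ρ g₀ v₀ ≠ v₀ := by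
    by_contra hcon
    push Not at hcon
    obtain ⟨a, ha, b, hb, hab⟩ := H.nonab
    have h1 : ∀ l : L, l = 1 := by
      intro l
      apply act_injective H
      rw [map_one]
      apply LinearMap.ext
      intro v
      have h2 := hcon (ψ l) v
      rw [hρ, ψ.symm_apply_apply] at h2
      exact h2
    apply hab
    have h2 : a = 1 := congrArg Subtype.val (h1 ⟨a, ha⟩)
    rw [h2, one_mul, mul_one]
  have hI : Indep ρ := by
    by_cases h10 : 10 ≤ n
    · refine indep_ten (by rwa [Fintype.card_fin]) ?_ (by omega)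
      intro h5
      have h1 : ((5 : ℕ) : K) = 0 := by exact_mod_cast h5
      have h2 := (CharP.cast_eq_zero_iff K p 5).1 h1
      rcases hp23 with rfl | ⟨rfl, -⟩
      · exact absurd h2 (by norm_num)
      · exact absurd h2 (by norm_num)
    · have hp2 : p = 2 := by
        rcases hp23 with h1 | ⟨-, h1⟩
        · exact h1
        · exact absurd h1 h10
      subst hp2
      rcases nine (ρ := ρ) (by rw [Fintype.card_fin]; exact hn) (by
        intro h3
        exact absurd ((CharP.cast_eq_zero_iff K 2 3).1 h3) (by norm_num)) hd.le hirr hne with h1 | ⟨h1, -⟩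
      · exact h1
      · omega
  obtain ⟨F, hF1, hF2, hF3, hF4, hF5⟩ := natural hI (by rw [Fintype.card_fin]; omega) hirr hne
  have hN : NatM ρ F := ⟨hF1, hF2, hF3, hF4, hF5⟩
  have h1 := finrank_le hN (by omega)
  have h13 : n = 13 ∨ n = 14 := by omega
  obtain ⟨v, hv, hno⟩ := no_eleven hN h13
  have h0 : 0 < h := Cfsg.Agent.H19.HT.h_pos H.half hv
  have h2 := orbit_normal_dvd_m H.half h0 hm L H.le H.nrm hv
  have h3 : ¬ 11 ∣ Nat.card (MulAction.orbit L v) := fun h4 => h11 (h4.trans h2)
  have h4 := MulAction.card_orbit_mul_card_stabilizer_eq_card_group L v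
  rw [← Nat.card_eq_fintype_card, ← Nat.card_eq_fintype_card, ← Nat.card_eq_fintype_card] at h4
  have hFa : Fact (Nat.Prime 11) := ⟨by norm_num⟩
  have h5 : 11 ∣ Nat.card L := by
    have h6 := card_alt (n := n) (by omega)
    rw [← Nat.card_congr ψ.toEquiv] at h6
    have h7 : 11 ∣ 2 * Nat.card L := by
      rw [h6]
      exact (Nat.Prime.dvd_factorial (by norm_num)).2 (by omega)
    rcases (Nat.Prime.dvd_mul (by norm_num : Nat.Prime 11)).1 h7 with h8 | h8
    · exact absurd h8 (by norm_num)
    · exact h8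
  rw [← h4] at h5
  rcases (Nat.Prime.dvd_mul (by norm_num : Nat.Prime 11)).1 h5 with h6 | h6
  · exact h3 h6
  · obtain ⟨x, hx⟩ := exists_prime_orderOf_dvd_card' 11 h6
    have hx11 : ((x : MulAction.stabilizer L v) : L) ^ 11 = 1 := by
      have : x ^ 11 = 1 := by rw [← hx, pow_orderOf_eq_one]
      exact congrArg Subtype.val this
    have hxv : act H (x : L) v = v := x.2
    have h7 := hno (ψ x) (by rw [hρ, ψ.symm_apply_apply]; exact hxv) (by rw [← map_pow, hx11, map_one])
    have h8 : (x : L) = 1 := by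
      apply ψ.injective
      rw [h7, map_one]
    have h9 : x = 1 := Subtype.ext h8
    rw [h9, orderOf_one] at hx
    omega

/-- **The row `A_n`, `n ≥ 9`** -/
theorem alt_row (H : QL p K V G L h) (hpG : p ∣ Nat.card G) {n : ℕ} (hn : 9 ≤ n)
    (e : (L ⧸ Subgroup.center L) ≃* alternatingGroup (Fin n)) : Tr G := by
  by_contra hT
  rcases Nat.lt_or_ge n 71 with h1 | h1
  · obtain ⟨m, hm, hK, ⟨h2, h3, h4, h5⟩ | ⟨h2, h3, h4, h5⟩ | ⟨h2, h3, h4, h5, h6⟩⟩ := cases H hpG hT hn (by omega) e
    · refine no_12 H hn h4 hm e (Or.inl h2) h3 fun h6 => ?_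
      exact absurd (h6.trans h5) (by norm_num)
    · refine no_12 H hn (by omega) hm e (Or.inr ⟨h2, by omega⟩) h3 fun h6 => ?_
      rw [h5] at h6
      exact absurd h6 (by norm_num)
    · have h7 := engine H hn e hm (l := 5) (a := 0) (by norm_num) (by norm_num) (by omega) (by norm_num; omega) (by
        rw [h3]
        have : Nat.totient (5 ^ (0 + 1)) = 4 := by decide +kernel
        rw [this]
        norm_num
        omega)
      rw [hK, h2] at h7
      exact no_24 h4 h5 h6 h7
  · exact no_big H hpG hT h1 e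

end Cfsg.Agent.H953.HTA
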