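import Cfsg.Agent.H189.FeitTits
import Cfsg.Agent.H189.Eig
import Cfsg.Agent.H614.AMod.Emb

/-!
# Representations of covers of `A_n` and eigenspaces of `r`-cycles (helper953, S3512)

* `Cov n π` : `π : L → A_n` onto, with central kernel of exponent two;
* `exists_cyc` : an `r`-cycle, `r` odd, and its lift of order `r`;
* `Cov.conj` : it is conjugate to its powers;
* `totient_mul_le` : `φ(r) dim V_μ ≤ dim V`;
* `Cov.triv_eig` : if `dim V < φ(r) (n - r - 2)` then a group of order divisible by `|A_{n - r}|` is trivial on `V_μ(c)`,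
  `c` an `r`-cycle, `μ` a primitive `r`-th root of unity.
-/

set_option autoImplicit false
set_option linter.unusedSectionVars false

namespace Cfsg.Agent.H953.HTA

open Equiv Equiv.Perm Module Cfsg.Agent.H614.AMod

/-- a group over `A_n` with central kernel of exponent two -/
structure Cov (n : ℕ) {L : Type*} [Group L] (π : L →* alternatingGroup (Fin n)) : Prop where
  surj : Function.Surjective π
  ker : ∀ k, π k = 1 → k ^ 2 = 1 ∧ ∀ g, k * g = g * k

section eig

variable {k V : Type*} [Field k] [AddCommGroup V] [Module k V] [FiniteDimensional k V]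

theorem totient_mul_le {r : ℕ} (T : End k V) {μ : k} (hμ : IsPrimitiveRoot μ r)
    (h : ∀ i, i.Coprime r → finrank k (T.eigenspace μ) ≤ finrank k (T.eigenspace (μ ^ i))) :
    Nat.totient r * finrank k (T.eigenspace μ) ≤ finrank k V := by
  classical
  let ι := {i : Fin r // (i : ℕ).Coprime r}
  have h1 := H189.Eig.eigen_sum_le (ι := ι) T (fun i => μ ^ (i.1 : ℕ)) (by
    intro i j hij
    have := hμ.pow_inj i.1.2 j.1.2 hij
    exact Subtype.ext (Fin.ext this))
  refine le_trans ?_ h1
  have h2 : Fintype.card ι = Nat.totient r := by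
    rw [Nat.totient_eq_card_coprime, Fintype.card_subtype]
    refine Finset.card_bij (fun i _ => (i : ℕ)) ?_ ?_ ?_
    · intro i hi
      rw [Finset.mem_filter] at hi ⊢
      exact ⟨Finset.mem_range.2 i.2, hi.2.symm⟩
    · intro i _ j _ hij
      exact Fin.ext hij
    · intro b hb
      rw [Finset.mem_filter, Finset.mem_range] at hb
      exact ⟨⟨b, hb.1⟩, by rw [Finset.mem_filter]; exact ⟨Finset.mem_univ _, hb.2.symm⟩, rfl⟩
  calc Nat.totient r * finrank k (T.eigenspace μ) = ∑ _i : ι, finrank k (T.eigenspace μ) := by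
        rw [Finset.sum_const, Finset.card_univ, h2, smul_eq_mul]
    _ ≤ _ := Finset.sum_le_sum fun i _ => h _ i.2

end eig

/-- an `r`-cycle and the embedding of the complement -/
theorem exists_cyc {n r : ℕ} (hr : 2 ≤ r) (ho : Odd r) (hn : r + 2 ≤ n) :
    ∃ (c : alternatingGroup (Fin n)) (e : Fin (n - r) ↪ Fin n), (c : Perm (Fin n)).IsCycle ∧
      (c : Perm (Fin n)).support.card = r ∧ ∀ i, (c : Perm (Fin n)) (e i) = e i := by
  obtain ⟨g, hg⟩ := (exists_with_cycleType_iff (α := Fin n) (m := {r})).2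
    ⟨by rw [Multiset.sum_singleton, Fintype.card_fin]; omega, by
      intro a ha
      rw [Multiset.mem_singleton] at ha
      omega⟩
  have hcyc : g.IsCycle := by
    rw [← card_cycleType_eq_one, hg, Multiset.card_singleton]
  have hs : g.support.card = r := by
    rw [← sum_cycleType, hg, Multiset.sum_singleton]
  have hsg : g ∈ alternatingGroup (Fin n) := by
    rw [mem_alternatingGroup, hcyc.sign, hs, ho.neg_one_pow, neg_neg]
  have hcc : Fintype.card {x // x ∈ g.supportᶜ} = n - r := by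
    rw [Fintype.card_coe, Finset.card_compl, Fintype.card_fin, hs]
  let f := (Fintype.equivFinOfCardEq hcc).symm
  refine ⟨⟨g, hsg⟩, f.toEmbedding.trans (Function.Embedding.subtype _), hcyc, hs, fun i => ?_⟩
  have h1 := (f i).2
  rw [Finset.mem_compl, notMem_support] at h1
  exact h1

theorem comm_ex {n r : ℕ} {c : alternatingGroup (Fin n)} {e : Fin (n - r) ↪ Fin n}
    (he : ∀ i, (c : Perm (Fin n)) (e i) = e i) (σ : alternatingGroup (Fin (n - r))) : c * ex e σ = ex e σ * c := by
  apply Subtype.ext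
  apply Equiv.ext
  intro x
  show (c : Perm (Fin n)) ((ex e σ : Perm (Fin n)) x) = (ex e σ : Perm (Fin n)) ((c : Perm (Fin n)) x)
  by_cases hx : ∃ i, e i = x
  · obtain ⟨i, rfl⟩ := hx
    rw [he, ex_apply, he]
  · rw [not_exists] at hx
    rw [ex_of_notMem e σ hx, ex_of_notMem e σ]
    intro i hi
    rw [← he i] at hi
    exact hx i ((c : Perm (Fin n)).injective hi)

/-- an `r`-cycle is conjugate to its powers -/
theorem conj_cyc {n r : ℕ} (hn : r + 2 ≤ n) {c : alternatingGroup (Fin n)} (hc : (c : Perm (Fin n)).IsCycle)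
    (hs : (c : Perm (Fin n)).support.card = r) {i : ℕ} (hi : i.Coprime r) :
    ∃ g : alternatingGroup (Fin n), g * c * g⁻¹ = c ^ i := by
  have ho : orderOf (c : Perm (Fin n)) = r := by rw [hc.orderOf, hs]
  have h1 : ((c : Perm (Fin n)) ^ i).IsCycle := by
    rw [IsCycle.pow_iff hc, ho]
    exact hi
  have h2 : ((c : Perm (Fin n)) ^ i).support = (c : Perm (Fin n)).support :=
    support_pow_coprime (by rw [ho]; exact hi)
  have h3 : IsConj (c : Perm (Fin n)) ((c ^ i : alternatingGroup (Fin n)) : Perm (Fin n)) := by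
    rw [isConj_iff_cycleType_eq, Subgroup.coe_pow, hc.cycleType, h1.cycleType, h2]
  have h4 := alternatingGroup.isConj_of h3 (by rw [hs, Fintype.card_fin]; exact hn)
  exact isConj_iff.1 h4

variable {n : ℕ} {L : Type*} [Group L] {π : L →* alternatingGroup (Fin n)}

theorem Cov.eq_one (h : Cov n π) {r : ℕ} (hr : Odd r) {k : L} (hk : π k = 1) (hkr : k ^ r = 1) : k = 1 := by
  obtain ⟨j, rfl⟩ := hr
  rw [pow_succ, pow_mul, (h.ker k hk).1, one_pow, one_mul] at hkr
  exact hkr

/-- the lift of order `r` -/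
theorem Cov.lift (h : Cov n π) {r : ℕ} (hr : Odd r) {c : alternatingGroup (Fin n)} (hc : c ^ r = 1) :
    ∃ x, π x = c ∧ x ^ r = 1 := by
  obtain ⟨g, rfl⟩ := h.surj c
  obtain ⟨j, hj⟩ := hr
  refine ⟨g ^ (r + 1), by rw [map_pow, pow_succ, hc, one_mul], ?_⟩
  have h1 := (h.ker (g ^ r) (by rw [map_pow, hc])).1
  rw [← pow_mul, mul_comm, pow_mul, show r + 1 = 2 * (j + 1) by omega, pow_mul, h1, one_pow]

/-- conjugacy of elements of odd order can be lifted -/
theorem Cov.conj (h : Cov n π) {r : ℕ} (hr : Odd r) {x y g : L} (hx : x ^ r = 1) (hy : y ^ r = 1)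
    (hg : π g * π x * (π g)⁻¹ = π y) : g * x * g⁻¹ = y := by
  have hk : π (y⁻¹ * (g * x * g⁻¹)) = 1 := by
    rw [map_mul, map_inv, map_mul, map_mul, map_inv, hg, inv_mul_cancel]
  have hz := (h.ker _ hk).2
  have h1 : (y⁻¹ * (g * x * g⁻¹)) ^ r = 1 := by
    have hc : Commute y (y⁻¹ * (g * x * g⁻¹)) := (hz y).symm
    have h2 : (y * (y⁻¹ * (g * x * g⁻¹))) ^ r = y ^ r * (y⁻¹ * (g * x * g⁻¹)) ^ r := hc.mul_pow r
    rw [mul_inv_cancel_left, hy, one_mul, conj_pow, hx, mul_one, mul_inv_cancel] at h2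
    exact h2.symm
  have h3 := h.eq_one hr hk h1
  rwa [inv_mul_eq_one, eq_comm] at h3

/-- commuting modulo the kernel -/
theorem Cov.comm (h : Cov n π) {r : ℕ} (hr : Odd r) {x g : L} (hx : x ^ r = 1) (hg : π x * π g = π g * π x) :
    g * x = x * g := by
  have := h.conj hr (g := g) hx hx (by rw [← hg, mul_inv_cancel_right])
  rwa [mul_inv_eq_iff_eq_mul] at this

section main

variable {k : Type*} [Field k] {V : Type*} [AddCommGroup V] [Module k V] [FiniteDimensional k V]

theorem Cov.finrank_eig_le (h : Cov n π) {r : ℕ} (hr : Odd r) (hn : r + 2 ≤ n) {x : L} (hx : x ^ r = 1)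
    (hc : ((π x : alternatingGroup (Fin n)) : Perm (Fin n)).IsCycle)
    (hs : ((π x : alternatingGroup (Fin n)) : Perm (Fin n)).support.card = r) (σ : L →* End k V) {μ : k}
    (hμ : IsPrimitiveRoot μ r) : Nat.totient r * finrank k ((σ x).eigenspace μ) ≤ finrank k V := by
  have hr0 : 0 < r := hr.pos
  refine totient_mul_le _ hμ fun i hi => ?_
  -- the inverse of `i`
  obtain ⟨j, hj⟩ : ∃ j, i * j % r = 1 % r := by
    rcases Nat.lt_or_ge 1 r with h1 | h1
    · obtain ⟨j, -, hj⟩ := Nat.exists_mul_mod_eq_one_of_coprime hi h1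
      exact ⟨j, by rw [hj, Nat.mod_eq_of_lt h1]⟩
    · obtain rfl : r = 1 := by omega
      exact ⟨0, by rw [Nat.mod_one]⟩
  have hjr : j.Coprime r := by
    have h2 : (i * j).gcd r = 1 := by
      rw [(show i * j ≡ 1 [MOD r] from hj).gcd_eq, Nat.gcd_one_left]
    exact Nat.Coprime.coprime_mul_left h2
  obtain ⟨g, hg⟩ := conj_cyc hn hc hs hjr
  obtain ⟨g, rfl⟩ := h.surj g
  have hgx : g * x * g⁻¹ = x ^ j := by
    refine h.conj hr hx (by rw [← pow_mul, mul_comm, pow_mul, hx, one_pow]) ?_
    rw [hg, map_pow]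
  have hxij : x ^ (j * i) = x := by
    have h3 : x ^ (i * j) = x ^ (1 % r) := by
      rw [← hj, ← pow_mod_orderOf x (i * j), ← pow_mod_orderOf x (i * j % r),
        Nat.mod_mod_of_dvd _ (orderOf_dvd_of_pow_eq_one hx)]
    rw [mul_comm, h3, ← pow_mod_orderOf x (1 % r), Nat.mod_mod_of_dvd _ (orderOf_dvd_of_pow_eq_one hx),
      pow_mod_orderOf, pow_one]
  have hmul : ∀ a b : L, ∀ v, σ (a * b) v = σ a (σ b v) := fun a b v => by rw [map_mul, End.mul_apply]
  refine LinearMap.finrank_le_finrank_of_injective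
    (f := (σ g).restrict (p := (σ x).eigenspace μ) (q := (σ x).eigenspace (μ ^ i)) fun v hv => ?_) fun u v huv => ?_
  · rw [End.mem_eigenspace_iff] at hv ⊢
    have h4 : σ (x ^ j) (σ g v) = μ • σ g v := by
      rw [← hmul, ← hgx, inv_mul_cancel_right, hmul, hv, map_smul]
    have h5 : ∀ t : ℕ, σ ((x ^ j) ^ t) (σ g v) = μ ^ t • σ g v := by
      intro t
      induction t with
      | zero => rw [pow_zero, map_one, pow_zero, one_smul]; rfl
      | succ t ih => rw [pow_succ, hmul, h4, map_smul, ih, smul_smul, pow_succ, mul_comm]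
    have h6 := h5 i
    rw [← pow_mul, hxij] at h6
    exact h6
  · have h7 : σ g (u : V) = σ g (v : V) := congrArg Subtype.val huv
    have h8 := congrArg (σ g⁻¹) h7
    rw [← hmul, ← hmul, inv_mul_cancel, map_one] at h8
    exact Subtype.ext h8

/-- **the eigenspaces of `r`-cycles** -/
theorem Cov.triv_eig [Finite L] (p : ℕ) [CharP k p] (h : Cov n π) {r : ℕ} (hr : Odd r) (hn : r + 9 ≤ n) {x : L}
    (hx : x ^ r = 1) (hc : ((π x : alternatingGroup (Fin n)) : Perm (Fin n)).IsCycle)
    (hs : ((π x : alternatingGroup (Fin n)) : Perm (Fin n)).support.card = r) {e : Fin (n - r) ↪ Fin n}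
    (he : ∀ i, ((π x : alternatingGroup (Fin n)) : Perm (Fin n)) (e i) = e i) (σ : L →* End k V) {μ : k}
    (hμ : IsPrimitiveRoot μ r) (hd : finrank k V < Nat.totient r * (n - r - 2)) :
    ∃ N : Subgroup L, N.map π = (ex e).range ∧ ∀ g ∈ N, ∀ v ∈ (σ x).eigenspace μ, σ g v = v := by
  classical
  have hinj : Function.Injective (ex e) := by
    rw [injective_iff_map_eq_one]
    intro s hs1
    apply Subtype.ext
    apply Equiv.ext
    intro i
    apply e.injective
    rw [← ex_apply, hs1]
    rfl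
  let C : Subgroup L := (ex e).range.comap π
  have hCx : ∀ y ∈ C, y * x = x * y := by
    intro y hy
    obtain ⟨s, hs1⟩ := Subgroup.mem_comap.1 hy
    refine h.comm hr hx ?_
    rw [← hs1]
    exact comm_ex he s
  have hmul : ∀ a b : L, ∀ v, σ (a * b) v = σ a (σ b v) := fun a b v => by rw [map_mul, End.mul_apply]
  have hCE : ∀ y ∈ C, ∀ v ∈ (σ x).eigenspace μ, σ y v ∈ (σ x).eigenspace μ := by
    intro y hy v hv
    rw [End.mem_eigenspace_iff] at hv ⊢
    rw [← hmul, ← hCx y hy, hmul, hv, map_smul]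
  -- the action on the eigenspace
  let ρ : C →* End k ((σ x).eigenspace μ) :=
    { toFun := fun y => (σ y).restrict (hCE y y.2)
      map_one' := by
        apply LinearMap.ext
        intro v
        apply Subtype.ext
        show σ ((1 : C) : L) (v : V) = v
        rw [Subgroup.coe_one, map_one]
        rfl
      map_mul' := by
        intro a b
        apply LinearMap.ext
        intro v
        apply Subtype.ext
        show σ ((a * b : C) : L) (v : V) = σ a (σ b v)
        rw [Subgroup.coe_mul, hmul] }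
  have hρ : ∀ (y : C) (v : (σ x).eigenspace μ), ((ρ y v : (σ x).eigenspace μ) : V) = σ y v := fun y v => rfl
  let π' : C →* alternatingGroup (Fin (n - r)) :=
    ((ex e).ofInjective hinj).symm.toMonoidHom.comp ((π.comp C.subtype).codRestrict (ex e).range fun y => y.2)
  have hπ' : ∀ y : C, ex e (π' y) = π y := by
    intro y
    have h1 := ((ex e).ofInjective hinj).apply_symm_apply ((π.comp C.subtype).codRestrict (ex e).range (fun y => y.2) y)
    exact congrArg Subtype.val h1
  have hsurj : Function.Surjective π' := by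
    intro s
    obtain ⟨y, hy⟩ := h.surj (ex e s)
    refine ⟨⟨y, Subgroup.mem_comap.2 ⟨s, hy.symm⟩⟩, hinj ?_⟩
    rw [hπ']
    exact hy
  have hlt : finrank k ((σ x).eigenspace μ) < n - r - 2 := by
    have h1 := h.finrank_eig_le hr (by omega) hx hc hs σ hμ
    have h2 : Nat.totient r * finrank k ((σ x).eigenspace μ) < Nat.totient r * (n - r - 2) := lt_of_le_of_lt h1 hd
    exact Nat.lt_of_mul_lt_mul_left h2
  have hne : ¬ ∀ y, ρ y = 1 → π' y = 1 := by
    intro hk
    have h1 := H189.FeitTits.feit_tits (k := k) p (r := n - r) (by omega) π' hsurj ρ hk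
    split_ifs at h1 <;> omega
  push Not at hne
  obtain ⟨y₀, hy₀, hy₁⟩ := hne
  have hsim : IsSimpleGroup (alternatingGroup (Fin (n - r))) := H189.FeitTits.alt_simple (by omega)
  have hN : (ρ.ker.map π').Normal := Subgroup.Normal.map inferInstance π' hsurj
  have htop : ρ.ker.map π' = ⊤ := by
    rcases hN.eq_bot_or_eq_top with h1 | h1
    · exfalso
      have h2 : π' y₀ ∈ ρ.ker.map π' := ⟨y₀, hy₀, rfl⟩
      rw [h1, Subgroup.mem_bot] at h2
      exact hy₁ h2
    · exact h1
  refine ⟨ρ.ker.map C.subtype, ?_, ?_⟩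
  · apply le_antisymm
    · rintro _ ⟨_, ⟨y, -, rfl⟩, rfl⟩
      exact ⟨π' y, hπ' y⟩
    · rintro _ ⟨s, rfl⟩
      have h1 : s ∈ ρ.ker.map π' := by rw [htop]; trivial
      obtain ⟨y, hy, rfl⟩ := h1
      exact ⟨y, ⟨y, hy, rfl⟩, (hπ' y).symm⟩
  · rintro _ ⟨y, hy, rfl⟩ v hv
    have h1 := congrArg (fun f : End k ((σ x).eigenspace μ) => ((f ⟨v, hv⟩ : (σ x).eigenspace μ) : V))
      (MonoidHom.mem_ker.1 hy)
    exact h1

end main

end Cfsg.Agent.H953.HTA
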