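import Cfsg.Agent.H953.HTA.A

/-!
# Fixed vectors of `A_{n - r}` in small representations of covers of `A_n` (helper953, S3512)

`Cov.exists_fixed` : `r = l ^ (a + 1)`, `l` an odd prime different from the characteristic,
`dim V < φ(r) (n - r - 2)`: a subgroup of order divisible by `|A_{n - r}|` has a non-zero fixed vector.
-/

set_option autoImplicit false
set_option linter.unusedSectionVars false

namespace Cfsg.Agent.H953.HTA

open Equiv Equiv.Perm Module Cfsg.Agent.H614.AMod

variable {n : ℕ} {L : Type*} [Group L] {π : L →* alternatingGroup (Fin n)}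

/-- an eigenvalue of order `l ^ (a + 1)` -/
theorem exists_prim_eig {k V : Type*} [Field k] [IsAlgClosed k] [AddCommGroup V] [Module k V] [FiniteDimensional k V]
    {l a : ℕ} (hl : l.Prime) (hlk : (l : k) ≠ 0) {T : End k V} (h1 : T ^ (l ^ (a + 1)) = 1) (h2 : T ^ (l ^ a) ≠ 1) :
    ∃ (μ : k) (w : V), w ≠ 0 ∧ T w = μ • w ∧ IsPrimitiveRoot μ (l ^ (a + 1)) := by
  obtain ⟨w, hw, hw0, μ, hμ⟩ := H189.Eig.exists_eig T (LinearMap.range (T ^ (l ^ a) - 1)) (by
    rintro _ ⟨u, rfl⟩
    refine ⟨T u, ?_⟩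
    show (T ^ (l ^ a)) (T u) - T u = T ((T ^ (l ^ a)) u - u)
    rw [map_sub, ← End.mul_apply, ← End.mul_apply, ← pow_succ, ← pow_succ']) (by
    intro h
    apply h2
    rw [LinearMap.range_eq_bot, sub_eq_zero] at h
    exact h)
  have hpow : ∀ i : ℕ, (T ^ i) w = μ ^ i • w := by
    intro i
    induction i with
    | zero => simp
    | succ i ih => rw [pow_succ, End.mul_apply, hμ, map_smul, ih, smul_smul, pow_succ, mul_comm]
  have h3 : μ ^ (l ^ (a + 1)) = 1 := by
    have h4 := hpow (l ^ (a + 1))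
    rw [h1, End.one_apply] at h4
    have h5 : (μ ^ (l ^ (a + 1)) - 1) • w = 0 := by rw [sub_smul, ← h4, one_smul, sub_self]
    exact sub_eq_zero.1 ((smul_eq_zero.1 h5).resolve_right hw0)
  have h6 : ¬ μ ^ (l ^ a) = 1 := by
    intro h7
    apply hw0
    refine H189.Eig.geom_zero (T := T ^ (l ^ a)) (m := l) (by rw [← pow_mul, ← pow_succ, h1]) hw ?_ hlk
    rw [hpow, h7, one_smul]
  have hF := Fact.mk hl
  refine ⟨μ, w, hw0, hμ, ?_⟩
  rw [IsPrimitiveRoot.iff_orderOf]
  exact orderOf_eq_prime_pow h6 h3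

/-- fixed vectors and extension of scalars -/
theorem exists_fixed_descend {k K : Type*} [Field k] [Field K] [Algebra k K] {d : ℕ} {ι : Type*}
    (A : ι → Matrix (Fin d) (Fin d) k) {w : Fin d → K} (hw : w ≠ 0)
    (h : ∀ i, ((A i).map (algebraMap k K)).mulVec w = w) : ∃ v : Fin d → k, v ≠ 0 ∧ ∀ i, (A i).mulVec v = v := by
  obtain ⟨j, hj⟩ : ∃ j, w j ≠ 0 := by
    by_contra hcon
    push Not at hcon
    exact hw (funext hcon)
  obtain ⟨φ, hφ⟩ : ∃ φ : K →ₗ[k] k, φ (w j) ≠ 0 := by
    by_contra hcon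
    push Not at hcon
    exact hj ((Module.forall_dual_apply_eq_zero_iff k (w j)).1 hcon)
  refine ⟨fun i => φ (w i), fun h0 => hφ (congrFun h0 j), fun i => ?_⟩
  funext s
  have h1 := congrArg φ (congrFun (h i) s)
  rw [Matrix.mulVec, dotProduct, map_sum] at h1
  rw [Matrix.mulVec, dotProduct, ← h1]
  refine Finset.sum_congr rfl fun t _ => ?_
  rw [Matrix.map_apply, ← Algebra.smul_def, map_smul, smul_eq_mul]

theorem Cov.exists_fixed [Finite L] {k : Type*} [Field k] (p : ℕ) [CharP k p] {V : Type*} [AddCommGroup V]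
    [Module k V] [FiniteDimensional k V] (h : Cov n π) {l a : ℕ} (hl : l.Prime) (hl2 : l ≠ 2) (hlp : l ≠ p)
    (hn : l ^ (a + 1) + 9 ≤ n) (σ : L →* End k V) (hσ : Function.Injective σ)
    (hd : finrank k V < Nat.totient (l ^ (a + 1)) * (n - l ^ (a + 1) - 2)) :
    ∃ N : Subgroup L, Nat.card (alternatingGroup (Fin (n - l ^ (a + 1)))) ∣ Nat.card N ∧
      ∃ v : V, v ≠ 0 ∧ ∀ g ∈ N, σ g v = v := by
  classical
  have hodd : Odd (l ^ (a + 1)) := (hl.odd_of_ne_two hl2).pow
  have hr2 : 2 ≤ l ^ (a + 1) := hl.two_le.trans (Nat.le_self_pow (by omega) l)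
  obtain ⟨c, e, hc, hs, he⟩ := exists_cyc (n := n) hr2 hodd (by omega)
  have hcr : c ^ (l ^ (a + 1)) = 1 := by
    apply Subtype.ext
    show (c : Perm (Fin n)) ^ _ = 1
    rw [← hs, ← hc.orderOf, pow_orderOf_eq_one]
  obtain ⟨x, rfl, hx⟩ := h.lift hodd hcr
  let b := finBasis k V
  let d := finrank k V
  let θ : L →* Matrix (Fin d) (Fin d) k := (LinearMap.toMatrixAlgEquiv b).toAlgHom.toRingHom.toMonoidHom.comp σ
  let K := AlgebraicClosure k
  have hch : CharP K p := charP_of_injective_algebraMap (algebraMap k _).injective p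
  let σK : L →* End K (Fin d → K) :=
    (Matrix.toLinAlgEquiv' (R := K) (n := Fin d)).toAlgHom.toRingHom.toMonoidHom.comp
      ((algebraMap k K).mapMatrix.toMonoidHom.comp θ)
  have hσK : ∀ g (w : Fin d → K), σK g w = ((θ g).map (algebraMap k K)).mulVec w := fun g w => rfl
  have hσKinj : Function.Injective σK := by
    intro g g' hg
    apply hσ
    apply (LinearMap.toMatrixAlgEquiv b).injective
    have h1 := Matrix.toLinAlgEquiv'.injective hg
    have h2 : Function.Injective (algebraMap k K).mapMatrix :=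
      Matrix.map_injective (m := Fin d) (n := Fin d) (algebraMap k K).injective
    exact h2 h1
  obtain ⟨μ, w, hw0, hw, hμ⟩ := exists_prim_eig (k := K) (T := σK x) (a := a) hl (by
    intro h0
    have h1 := (CharP.cast_eq_zero_iff K p l).1 h0
    rcases (Nat.dvd_prime hl).1 h1 with h2 | h2
    · exact CharP.char_ne_one K p h2
    · exact hlp h2.symm) (by rw [← map_pow, hx, map_one]) (by
    intro h0
    rw [← map_pow] at h0
    have h1 : x ^ l ^ a = 1 := hσKinj (by rw [h0, map_one])
    have h2 : (((π x) ^ l ^ a : alternatingGroup (Fin n)) : Perm (Fin n)) = 1 := by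
      rw [← map_pow, h1, map_one]
      rfl
    rw [Subgroup.coe_pow] at h2
    have h3 := orderOf_dvd_of_pow_eq_one h2
    rw [hc.orderOf, hs] at h3
    have h4 := Nat.le_of_dvd (pow_pos hl.pos a) h3
    have h5 : l ^ a < l ^ (a + 1) := Nat.pow_lt_pow_right hl.one_lt (by omega)
    omega)
  obtain ⟨N, hN, hNf⟩ := h.triv_eig (k := K) p hodd hn hx hc hs he σK hμ (by
    rw [finrank_fin_fun]
    exact hd)
  refine ⟨N, ?_, ?_⟩
  · have h1 : Nat.card (N.map π) ∣ Nat.card N := Subgroup.card_map_dvd N π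
    rw [hN] at h1
    have hinj : Function.Injective (ex e) := by
      rw [injective_iff_map_eq_one]
      intro s hs1
      apply Subtype.ext
      apply Equiv.ext
      intro i
      apply e.injective
      rw [← ex_apply, hs1]
      rfl
    rwa [← Nat.card_congr ((ex e).ofInjective hinj).toEquiv] at h1
  · obtain ⟨v, hv0, hv⟩ := exists_fixed_descend (K := K) (fun g : N => θ g) hw0 (fun g => by
      rw [← hσK]
      exact hNf g g.2 w (End.mem_eigenspace_iff.2 hw))
    refine ⟨b.equivFun.symm v, fun h0 => hv0 ((LinearEquiv.map_eq_zero_iff _).1 h0), fun g hg => ?_⟩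
    apply b.equivFun.injective
    rw [LinearEquiv.apply_symm_apply]
    have h1 := hv ⟨g, hg⟩
    have h2 := LinearMap.toMatrix_mulVec_repr b b (σ g) (b.equivFun.symm v)
    have h3 : ⇑(b.repr (b.equivFun.symm v)) = v := by
      have := b.equivFun.apply_symm_apply v
      exact this
    rw [h3] at h2
    have h4 : (LinearMap.toMatrix b b (σ g)).mulVec v = v := h1
    rw [h4] at h2
    exact h2.symm

end Cfsg.Agent.H953.HTA
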