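import Mathlib

/-!
# The numerical contradiction for `A_n`, `n ≥ 71` (helper953, S3512)

`large` : `q ^ w ≤ 2 m ^ 2`, `m ≤ (q - 1) n!`, `w ≥ n - 2`, and `m (n - r)! ≤ 2 (q - 1) n!` whenever `r = l ^ (a + 1)`,
`l` an odd prime different from `p`, `w < φ(r) (n - r - 2)`: contradiction.
-/

set_option autoImplicit false
set_option exponentiation.threshold 100000

namespace Cfsg.Agent.H953.HTA

open Nat

theorem step {q w m n r : ℕ} (hq : 2 ≤ q) (hw : 2 ≤ w) (hle : q ^ w ≤ 2 * m ^ 2) (hr : r ≤ n)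
    (h : m * (n - r)! ≤ 2 * ((q - 1) * n !)) : q ^ (w - 2) < 8 * n ^ (2 * r) := by
  have h1 : n ! ≤ (n - r)! * n ^ r := by
    rw [← Nat.factorial_mul_descFactorial hr]
    exact Nat.mul_le_mul_left _ (Nat.descFactorial_le_pow n r)
  have h2 : m ≤ 2 * ((q - 1) * n ^ r) := by
    have h3 : m * (n - r)! ≤ (2 * ((q - 1) * n ^ r)) * (n - r)! := by
      calc m * (n - r)! ≤ 2 * ((q - 1) * n !) := h
        _ ≤ 2 * ((q - 1) * ((n - r)! * n ^ r)) := by gcongr
        _ = _ := by ring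
    exact Nat.le_of_mul_le_mul_right h3 (Nat.factorial_pos _)
  have h0 : 0 < m := by
    rcases Nat.eq_zero_or_pos m with h0 | h0
    · rw [h0] at hle
      have : 0 < q ^ w := by positivity
      simp at hle
      omega
    · exact h0
  have hnr : 0 < n ^ r := by
    rcases Nat.eq_zero_or_pos (n ^ r) with h4 | h4
    · rw [h4, mul_zero, mul_zero] at h2
      omega
    · exact h4
  obtain ⟨q, rfl⟩ : ∃ x, q = x + 1 := ⟨q - 1, by omega⟩
  rw [Nat.add_sub_cancel] at h2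
  have h5 : (q + 1) ^ w < (q + 1) ^ 2 * (8 * n ^ (2 * r)) := by
    calc (q + 1) ^ w ≤ 2 * m ^ 2 := hle
      _ ≤ 2 * (2 * (q * n ^ r)) ^ 2 := by gcongr
      _ = q ^ 2 * (8 * n ^ (2 * r)) := by rw [mul_comm 2 r, pow_mul]; ring
      _ < (q + 1) ^ 2 * (8 * n ^ (2 * r)) := by
        apply Nat.mul_lt_mul_of_pos_right
        · exact Nat.pow_lt_pow_left (by omega) (by norm_num)
        · have : n ^ (2 * r) = (n ^ r) ^ 2 := by rw [mul_comm, pow_mul]
          rw [this]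
          positivity
  obtain ⟨w, rfl⟩ : ∃ x, w = x + 2 := ⟨w - 2, by omega⟩
  rw [pow_add, mul_comm] at h5
  rw [Nat.add_sub_cancel]
  exact Nat.lt_of_mul_lt_mul_left h5

theorem first {q w m n : ℕ} (hq : 2 ≤ q) (hw : 2 ≤ w) (hle : q ^ w ≤ 2 * m ^ 2) (h : m ≤ (q - 1) * n !) :
    q ^ (w - 2) < 2 * n ! ^ 2 := by
  obtain ⟨q, rfl⟩ : ∃ x, q = x + 1 := ⟨q - 1, by omega⟩
  rw [Nat.add_sub_cancel] at h
  have h5 : (q + 1) ^ w < (q + 1) ^ 2 * (2 * n ! ^ 2) := by
    calc (q + 1) ^ w ≤ 2 * m ^ 2 := hle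
      _ ≤ 2 * (q * n !) ^ 2 := by gcongr
      _ = q ^ 2 * (2 * n ! ^ 2) := by ring
      _ < (q + 1) ^ 2 * (2 * n ! ^ 2) := by
        apply Nat.mul_lt_mul_of_pos_right
        · exact Nat.pow_lt_pow_left (by omega) (by norm_num)
        · have := Nat.factorial_pos n
          positivity
  obtain ⟨w, rfl⟩ : ∃ x, w = x + 2 := ⟨w - 2, by omega⟩
  rw [pow_add, mul_comm] at h5
  rw [Nat.add_sub_cancel]
  exact Nat.lt_of_mul_lt_mul_left h5

theorem conc {b q w X Y : ℕ} (hb : 2 ≤ b) (hbq : b ≤ q) (h : q ^ (w - 2) < X) (hX : X ≤ b ^ (Y - 2)) (hY : 2 ≤ Y)  :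
    w < Y := by
  have h1 : b ^ (w - 2) < b ^ (Y - 2) := lt_of_le_of_lt (Nat.pow_le_pow_left hbq _) (lt_of_lt_of_le h hX)
  have h2 := (Nat.pow_lt_pow_iff_right (by omega)).1 h1
  omega

/-- the inequalities, `p ≠ 3` -/
def ok (n F : ℕ) : Bool :=
  ((Nat.ble (2 * F ^ 2) (2 ^ (18 * (n - 29) - 2)) && Nat.ble (8 * n ^ 54) (2 ^ (6 * (n - 11) - 2))) ||
    (Nat.ble 90 n && (Nat.ble (2 * F ^ 2) (2 ^ (54 * (n - 83) - 2)) && Nat.ble (8 * n ^ 162) (2 ^ (6 * (n - 11) - 2))))) &&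
  (Nat.ble (8 * n ^ 18) (2 ^ (2 * (n - 5) - 2)) && (Nat.ble (8 * n ^ 6) (2 ^ (n - 2 - 2)) &&
  (Nat.ble (2 * F ^ 2) (3 ^ (20 * (n - 27) - 2)) && (Nat.ble (8 * n ^ 50) (3 ^ (4 * (n - 7) - 2)) &&
  Nat.ble (8 * n ^ 10) (3 ^ (n - 2 - 2))))))

def loop : ℕ → ℕ → ℕ → Bool
  | 0, _, _ => true
  | f + 1, n, F => ok n F && loop f (n + 1) ((n + 1) * F)

theorem loop_spec : ∀ (f n : ℕ), loop f n (n !) = true → ∀ k, n ≤ k → k < n + f → ok k (k !) = true
  | 0, n, _, k, h1, h2 => by omega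
  | f + 1, n, h, k, h1, h2 => by
    rw [loop, Bool.and_eq_true] at h
    rcases h1.eq_or_lt with rfl | h3
    · exact h.1
    · have h4 := h.2
      rw [← Nat.factorial_succ] at h4
      exact loop_spec f (n + 1) h4 k h3 (by omega)

theorem loop_true : loop 1977 71 (71 !) = true := by decide +kernel

theorem mid {p q w m n : ℕ} (h1 : 71 ≤ n) (h2 : n < 2048) (hq : 2 ≤ q) (hq3 : p = 3 → 3 ≤ q) (hw : n - 2 ≤ w)
    (hle : q ^ w ≤ 2 * m ^ 2) (hm : m ≤ (q - 1) * n !)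
    (H : ∀ l a, l.Prime → l ≠ 2 → l ≠ p → l ^ (a + 1) + 9 ≤ n →
      w < Nat.totient (l ^ (a + 1)) * (n - l ^ (a + 1) - 2) → m * (n - l ^ (a + 1))! ≤ 2 * ((q - 1) * n !)) :
    False := by
  have h := loop_spec 1977 71 loop_true n h1 (by omega)
  simp only [ok, Bool.and_eq_true, Bool.or_eq_true, Nat.ble_eq] at h
  obtain ⟨iab, ic, id', ie, iF, ig⟩ := h
  have h0 := first hq (by omega) hle hm
  by_cases hp : p = 3
  · have hq3 := hq3 hp
    have w1 : w < 20 * (n - 27) := conc (by norm_num) hq3 h0 ie (by omega)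
    have t1 : Nat.totient (5 ^ (1 + 1)) = 20 := by decide +kernel
    have t2 : Nat.totient (5 ^ (0 + 1)) = 4 := by decide +kernel
    have s1 := step hq (by omega) hle (r := 25) (by omega) (H 5 1 (by norm_num) (by norm_num) (by omega)
      (by norm_num; omega) (by rw [t1]; norm_num; omega))
    have w2 : w < 4 * (n - 7) := conc (by norm_num) hq3 s1 iF (by omega)
    have s2 := step hq (by omega) hle (r := 5) (by omega) (H 5 0 (by norm_num) (by norm_num) (by omega)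
      (by norm_num; omega) (by rw [t2]; norm_num; omega))
    have w3 : w < n - 2 := conc (by norm_num) hq3 s2 ig (by omega)
    omega
  · have t0 : Nat.totient (3 ^ (2 + 1)) = 18 := by decide +kernel
    have t3 : Nat.totient (3 ^ (3 + 1)) = 54 := by decide +kernel
    have t1 : Nat.totient (3 ^ (1 + 1)) = 6 := by decide +kernel
    have t2 : Nat.totient (3 ^ (0 + 1)) = 2 := by decide +kernel
    have w2 : w < 6 * (n - 11) := by
      rcases iab with ⟨ia, ib⟩ | ⟨i90, ia, ib⟩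
      · have w1 : w < 18 * (n - 29) := conc (by norm_num) hq h0 ia (by omega)
        have s1 := step hq (by omega) hle (r := 27) (by omega) (H 3 2 (by norm_num) (by norm_num) (by omega)
          (by norm_num; omega) (by rw [t0]; norm_num; omega))
        exact conc (by norm_num) hq s1 ib (by omega)
      · have h92 : 94 ≤ n := by
          by_contra hlt
          have h3 : 54 * (n - 83) - 2 ≤ 540 := by omega
          have h4 : 2 * (71 !) ^ 2 ≤ 2 ^ 540 := by
            have h5 : 71 ! ≤ n ! := Nat.factorial_le h1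
            calc 2 * (71 !) ^ 2 ≤ 2 * n ! ^ 2 := by gcongr
              _ ≤ 2 ^ (54 * (n - 83) - 2) := ia
              _ ≤ 2 ^ 540 := Nat.pow_le_pow_right (by norm_num) h3
          exact absurd h4 (by decide +kernel)
        have w1 : w < 54 * (n - 83) := conc (by norm_num) hq h0 ia (by omega)
        have s1 := step hq (by omega) hle (r := 81) (by omega) (H 3 3 (by norm_num) (by norm_num) (by omega)
          (by norm_num; omega) (by rw [t3]; norm_num; omega))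
        exact conc (by norm_num) hq s1 ib (by omega)
    have s2 := step hq (by omega) hle (r := 9) (by omega) (H 3 1 (by norm_num) (by norm_num) (by omega)
      (by norm_num; omega) (by rw [t1]; norm_num; omega))
    have w3 : w < 2 * (n - 5) := conc (by norm_num) hq s2 ic (by omega)
    have s3 := step hq (by omega) hle (r := 3) (by omega) (H 3 0 (by norm_num) (by norm_num) (by omega)
      (by norm_num; omega) (by rw [t2]; norm_num; omega))
    have w4 : w < n - 2 := conc (by norm_num) hq s3 id' (by omega)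
    omega

/-- powers of `l` between `x` and `l x` -/
theorem exists_pow {l x : ℕ} (hl : 2 ≤ l) (hx : 1 ≤ x) : ∃ a, x ≤ l ^ a ∧ l ^ a < l * x := by
  obtain ⟨a, h1, h2⟩ : ∃ a, x ≤ l ^ a ∧ ∀ b, b < a → l ^ b < x := by
    classical
    have hex : ∃ a, x ≤ l ^ a := ⟨x, (Nat.lt_pow_self (by omega)).le⟩
    exact ⟨Nat.find hex, Nat.find_spec hex, fun b hb => not_le.1 (Nat.find_min hex hb)⟩
  refine ⟨a, h1, ?_⟩
  rcases Nat.eq_zero_or_pos a with rfl | h0
  · rw [pow_zero]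
    nlinarith
  · obtain ⟨b, rfl⟩ : ∃ b, a = b + 1 := ⟨a - 1, by omega⟩
    rw [pow_succ, mul_comm]
    exact Nat.mul_lt_mul_of_pos_left (h2 b (by omega)) (by omega)

theorem key_pow (j : ℕ) : 2048 * ((j + 12) * (j + 12)) ≤ 144 * 2 ^ (j + 11) := by
  induction j with
  | zero => norm_num
  | succ j ih =>
    have h3 : (j + 1 + 12) * (j + 1 + 12) ≤ 2 * ((j + 12) * (j + 12)) := by nlinarith
    calc 2048 * ((j + 1 + 12) * (j + 1 + 12)) ≤ 2048 * (2 * ((j + 12) * (j + 12))) := Nat.mul_le_mul_left _ h3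
      _ = 2 * (2048 * ((j + 12) * (j + 12))) := by ring
      _ ≤ 2 * (144 * 2 ^ (j + 11)) := Nat.mul_le_mul_left _ ih
      _ = 144 * 2 ^ (j + 1 + 11) := by ring

theorem aux25 {E n : ℕ} (hE : 12 ≤ E) (h : 170 * E ≤ n) : E * n * 2 + 3 ≤ 4 * (E + 1) * (n - 25 * (E + 1) - 2) := by
  obtain ⟨d, hd⟩ : ∃ d, n = d + 25 * (E + 1) + 2 := ⟨n - 25 * (E + 1) - 2, by omega⟩
  rw [show n - 25 * (E + 1) - 2 = d by omega]
  have h1 : E * (140 * E) ≤ E * d := Nat.mul_le_mul_left E (by omega)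
  subst hd
  nlinarith

theorem aux9 {E n : ℕ} (hE : 12 ≤ E) (h : 2048 * (E * E) ≤ 144 * n) :
    E * n * 2 + 3 ≤ 2 * (E + 1) * (n - 9 * (E + 1) - 2) := by
  have hEE : 12 * E ≤ E * E := Nat.mul_le_mul_right E hE
  obtain ⟨d, hd⟩ : ∃ d, n = d + 9 * (E + 1) + 2 := ⟨n - 9 * (E + 1) - 2, by omega⟩
  rw [show n - 9 * (E + 1) - 2 = d by omega]
  obtain ⟨S, hS⟩ : ∃ S, S = E * E := ⟨_, rfl⟩
  obtain ⟨X, hX⟩ : ∃ X, X = E * d := ⟨_, rfl⟩
  have e1 : E * n * 2 + 3 = 2 * X + 18 * S + 22 * E + 3 := by rw [hX, hS, hd]; ring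
  have e2 : 2 * (E + 1) * d = 2 * X + 2 * d := by rw [hX]; ring
  rw [e1, e2]
  rw [← hS] at h hEE
  omega

theorem big {p q w m n : ℕ} (h1 : 2048 ≤ n) (hq : 2 ≤ q) (hw : n - 2 ≤ w)
    (hle : q ^ w ≤ 2 * m ^ 2) (hm : m ≤ (q - 1) * n !)
    (H : ∀ l a, l.Prime → l ≠ 2 → l ≠ p → l ^ (a + 1) + 9 ≤ n →
      w < Nat.totient (l ^ (a + 1)) * (n - l ^ (a + 1) - 2) → m * (n - l ^ (a + 1))! ≤ 2 * ((q - 1) * n !)) :
    False := by
  have h0 := first hq (by omega) hle hm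
  obtain ⟨e, he1, he2⟩ : ∃ e, 2 ^ (e + 11) ≤ n ∧ n < 2 ^ (e + 12) := by
    refine ⟨Nat.log 2 n - 11, ?_, ?_⟩
    · have h2 : 11 ≤ Nat.log 2 n := Nat.le_log_of_pow_le (by norm_num) (by norm_num; omega)
      rw [Nat.sub_add_cancel h2]
      exact Nat.pow_log_le_self 2 (by omega)
    · have h2 : 11 ≤ Nat.log 2 n := Nat.le_log_of_pow_le (by norm_num) (by norm_num; omega)
      rw [show Nat.log 2 n - 11 + 12 = Nat.log 2 n + 1 by omega]
      exact Nat.lt_pow_succ_log_self (by norm_num) n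
  obtain ⟨E, hE⟩ : ∃ E, E = e + 12 := ⟨_, rfl⟩
  rw [show e + 11 = E - 1 by omega] at he1
  rw [← hE] at he2
  have hE12 : 12 ≤ E := by omega
  clear hE
  -- the size of `n`
  have hbig : 2048 * (E * E) ≤ 144 * n := by
    obtain ⟨j, rfl⟩ : ∃ j, E = j + 12 := ⟨E - 12, by omega⟩
    rw [show j + 12 - 1 = j + 11 by omega] at he1
    exact (key_pow j).trans (Nat.mul_le_mul_left _ he1)
  have hfac : 2 * n ! ^ 2 ≤ 2 ^ (E * n * 2 + 3 - 2) := by
    have h3 : n ! ≤ n ^ n := Nat.factorial_le_pow n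
    have h4 : n ^ n ≤ (2 ^ E) ^ n := Nat.pow_le_pow_left he2.le n
    calc 2 * n ! ^ 2 ≤ 2 * ((2 ^ E) ^ n) ^ 2 := by
          have := h3.trans h4
          gcongr
      _ = 2 ^ (E * n * 2 + 3 - 2) := by
        rw [show E * n * 2 + 3 - 2 = 1 + E * n * 2 by omega, pow_add, pow_one, pow_mul _ _ 2, pow_mul]
  have w1 : w < E * n * 2 + 3 := conc le_rfl hq h0 hfac (by omega)
  have hpow : ∀ r : ℕ, 8 * n ^ (2 * r) ≤ 2 ^ (E * (2 * r) + 5 - 2) := by
    intro r
    calc 8 * n ^ (2 * r) ≤ 8 * (2 ^ E) ^ (2 * r) := by gcongr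
      _ = 2 ^ (E * (2 * r) + 5 - 2) := by
        rw [show E * (2 * r) + 5 - 2 = 3 + E * (2 * r) by omega, pow_add, pow_mul 2 E (2 * r), show 2 ^ 3 = 8 from rfl]
  have hEE : 12 * E ≤ E * E := Nat.mul_le_mul_right E hE12
  have h170 : 170 * E ≤ n := by
    obtain ⟨S, hS⟩ : ∃ S, S = E * E := ⟨_, rfl⟩
    rw [← hS] at hbig hEE
    omega
  by_cases hp : p = 3
  · -- `l = 5`
    obtain ⟨a, ha1, ha2⟩ := exists_pow (l := 5) (x := E + 1) (by norm_num) (by omega)
    have ht : Nat.totient (5 ^ (a + 1)) = 4 * 5 ^ a := by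
      rw [Nat.totient_prime_pow_succ (by norm_num)]
      ring
    have hr : 5 ^ (a + 1) < 25 * (E + 1) := by
      rw [pow_succ]
      omega
    have hrn : 5 ^ (a + 1) + 9 ≤ n := by omega
    have s1 := step hq (by omega) hle (r := 5 ^ (a + 1)) (by omega) (H 5 a (by norm_num) (by norm_num) (by omega)
      hrn (by
        rw [ht]
        refine lt_of_lt_of_le w1 ((aux25 hE12 h170).trans ?_)
        exact Nat.mul_le_mul (Nat.mul_le_mul_left 4 ha1) (by omega)))
    have w2 := conc le_rfl hq s1 (hpow _) (by omega)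
    have t2 : Nat.totient (5 ^ (0 + 1)) = 4 := by decide +kernel
    have s2 := step hq (by omega) hle (r := 5) (by omega) (H 5 0 (by norm_num) (by norm_num) (by omega)
      (by norm_num; omega) (by
        rw [t2]
        norm_num
        refine lt_of_lt_of_le w2 ?_
        have h6 : E * (2 * 5 ^ (a + 1)) ≤ E * (2 * (25 * (E + 1))) := Nat.mul_le_mul_left _ (by omega)
        have h7 : E * (2 * (25 * (E + 1))) = 50 * (E * E) + 50 * E := by ring
        rw [h7] at h6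
        obtain ⟨S, hS⟩ : ∃ S, S = E * E := ⟨_, rfl⟩
        obtain ⟨X, hX⟩ : ∃ X, X = E * (2 * 5 ^ (a + 1)) := ⟨_, rfl⟩
        rw [← hS] at hbig hEE h6
        rw [← hX] at h6 ⊢
        clear w2 s1 H hle h0 hm hpow w1 hfac
        omega))
    have w3 := conc le_rfl hq s2 (hpow _) (by omega)
    clear w2 s1 H hle h0 hm hpow w1 hfac s2
    omega
  · obtain ⟨a, ha1, ha2⟩ := exists_pow (l := 3) (x := E + 1) (by norm_num) (by omega)
    have ht : Nat.totient (3 ^ (a + 1)) = 2 * 3 ^ a := by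
      rw [Nat.totient_prime_pow_succ (by norm_num)]
      ring
    have hr : 3 ^ (a + 1) < 9 * (E + 1) := by
      rw [pow_succ]
      omega
    have hrn : 3 ^ (a + 1) + 9 ≤ n := by omega
    have s1 := step hq (by omega) hle (r := 3 ^ (a + 1)) (by omega) (H 3 a (by norm_num) (by norm_num) (by omega)
      hrn (by
        rw [ht]
        refine lt_of_lt_of_le w1 ((aux9 hE12 hbig).trans ?_)
        exact Nat.mul_le_mul (Nat.mul_le_mul_left 2 ha1) (by omega)))
    have w2 := conc le_rfl hq s1 (hpow _) (by omega)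
    have t2 : Nat.totient (3 ^ (0 + 1)) = 2 := by decide +kernel
    have s2 := step hq (by omega) hle (r := 3) (by omega) (H 3 0 (by norm_num) (by norm_num) (by omega)
      (by norm_num; omega) (by
        rw [t2]
        norm_num
        refine lt_of_lt_of_le w2 ?_
        have h6 : E * (2 * 3 ^ (a + 1)) ≤ E * (2 * (9 * (E + 1))) := Nat.mul_le_mul_left _ (by omega)
        have h7 : E * (2 * (9 * (E + 1))) = 18 * (E * E) + 18 * E := by ring
        rw [h7] at h6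
        obtain ⟨S, hS⟩ : ∃ S, S = E * E := ⟨_, rfl⟩
        obtain ⟨X, hX⟩ : ∃ X, X = E * (2 * 3 ^ (a + 1)) := ⟨_, rfl⟩
        rw [← hS] at hbig hEE h6
        rw [← hX] at h6 ⊢
        clear w2 s1 H hle h0 hm hpow w1 hfac
        omega))
    have w3 := conc le_rfl hq s2 (hpow _) (by omega)
    clear w2 s1 H hle h0 hm hpow w1 hfac s2
    omega

/-- **the numerical contradiction** -/
theorem large {p q w m n : ℕ} (h1 : 71 ≤ n) (hq : 2 ≤ q) (hq3 : p = 3 → 3 ≤ q) (hw : n - 2 ≤ w)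
    (hle : q ^ w ≤ 2 * m ^ 2) (hm : m ≤ (q - 1) * n !)
    (H : ∀ l a, l.Prime → l ≠ 2 → l ≠ p → l ^ (a + 1) + 9 ≤ n →
      w < Nat.totient (l ^ (a + 1)) * (n - l ^ (a + 1) - 2) → m * (n - l ^ (a + 1))! ≤ 2 * ((q - 1) * n !)) :
    False := by
  rcases Nat.lt_or_ge n 2048 with h2 | h2
  · exact mid h1 h2 hq hq3 hw hle hm H
  · exact big h2 hq hw hle hm H

end Cfsg.Agent.H953.HTA
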