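import Cfsg.Agent.H614.AMod.NineC
import Cfsg.Agent.H964.AltMod.Dim

/-!
# The natural module of `A_n` : elements of order 11 (helper953, S3512)

* `NatM.finrank_le` : `dim V ≤ n - 1`;
* `NatM.no_eleven` : `n = 13, 14`: the stabiliser of `e₀ - e₁ + e₂ - e₃` contains no element of order 11.
-/

set_option autoImplicit false
set_option linter.unusedSectionVars false

namespace Cfsg.Agent.H953.HTA

open Equiv Equiv.Perm Module Cfsg.Agent.H614.AMod Cfsg.Agent.H964.AltMod

variable {n : ℕ} {K V : Type*} [Field K] [AddCommGroup V] [Module K V]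
  {ρ : Representation K (alternatingGroup (Fin n)) V} {F : Fin n → Fin n → V}

theorem F_self (h : NatM ρ F) (i : Fin n) : F i i = 0 := by
  have := h.tri i i i
  exact add_eq_left.1 this

theorem F_ne (h : NatM ρ F) (hn : 4 ≤ n) {x y : Fin n} (hxy : x ≠ y) : F x y ≠ 0 := by
  obtain ⟨i, j, hij⟩ := h.ne
  have hne : i ≠ j := by
    rintro rfl
    exact hij (F_self h i)
  obtain ⟨g, hg⟩ := exists_move (k := 2) (by rw [Fintype.card_fin]; omega) (emb2 x y hxy) (emb2 i j hne)
  intro h0
  apply hij
  have h1 := h.act g x y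
  rw [h0, map_zero] at h1
  have h2 : (g : Perm (Fin n)) x = i := hg 0
  have h3 : (g : Perm (Fin n)) y = j := hg 1
  rw [h2, h3] at h1
  exact h1.symm

theorem finrank_le (h : NatM ρ F) (hn : 0 < n) : finrank K V ≤ n - 1 := by
  classical
  let o : Fin n := ⟨0, hn⟩
  let f : {i : Fin n // i ≠ o} → V := fun i => F o i
  have h1 : Submodule.span K (Set.range f) = ⊤ := by
    rw [eq_top_iff, ← h.span, Submodule.span_le]
    have h2 : ∀ i, F o i ∈ Submodule.span K (Set.range f) := by
      intro i
      by_cases hi : i = o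
      · rw [hi, F_self h]
        exact Submodule.zero_mem _
      · exact Submodule.subset_span ⟨⟨i, hi⟩, rfl⟩
    rintro _ ⟨⟨i, j⟩, rfl⟩
    have h3 : F i j = F o j - F o i := by
      rw [eq_sub_iff_add_eq, add_comm]
      exact h.tri o i j
    show F i j ∈ Submodule.span K (Set.range f)
    rw [h3]
    exact Submodule.sub_mem _ (h2 j) (h2 i)
  have h4 := finrank_range_le_card (R := K) f
  rw [Set.finrank, h1, finrank_top] at h4
  refine h4.trans ?_
  rw [Fintype.card_subtype_compl, Fintype.card_fin, Fintype.card_subtype_eq]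

/-- a point outside -/
theorem exists_two {s : Finset (Fin n)} (hs : s.card + 2 ≤ n) : ∃ y z, y ∉ s ∧ z ∉ s ∧ y ≠ z := by
  have h1 : 1 < sᶜ.card := by
    rw [Finset.card_compl, Fintype.card_fin]
    omega
  obtain ⟨y, hy, z, hz, hyz⟩ := Finset.one_lt_card.1 h1
  exact ⟨y, z, Finset.mem_compl.1 hy, Finset.mem_compl.1 hz, hyz⟩

/-- moving one point -/
theorem exists_mv {s : Finset (Fin n)} (hs : s.card + 3 ≤ n) {x : Fin n} (hx : x ∉ s) :
    ∃ (y : Fin n) (τ : alternatingGroup (Fin n)), y ≠ x ∧ (τ : Perm (Fin n)) x = y ∧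
      ∀ i ∈ s, (τ : Perm (Fin n)) i = i := by
  classical
  obtain ⟨y, z, hy, hz, hyz⟩ := exists_two (s := insert x s) (by
    have := Finset.card_insert_le x s
    omega)
  rw [Finset.mem_insert, not_or] at hy hz
  refine ⟨y, cyc x y z (Ne.symm hy.1) hyz, hy.1, cyc_fst _ _ (Ne.symm hz.1), fun i hi => ?_⟩
  show (swap x y * swap y z) i = i
  have h1 : i ≠ x := by rintro rfl; exact hx hi
  have h2 : i ≠ y := by rintro rfl; exact hy.2 hi
  have h3 : i ≠ z := by rintro rfl; exact hz.2 hi
  rw [Perm.mul_apply, swap_apply_of_ne_of_ne h2 h3, swap_apply_of_ne_of_ne h1 h2]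

theorem key (h : NatM ρ F) (hn : 11 ≤ n) {a b c d : Fin n} {w : V} {s : Finset (Fin n)} (hs : s.card ≤ 4)
    (hw : ∀ τ : alternatingGroup (Fin n), (∀ i ∈ s, (τ : Perm (Fin n)) i = i) → ρ τ w = w)
    (hab : a ≠ b) (hac : a ≠ c) (had : a ≠ d) (hwe : F a b + F c d = w) : a ∈ s := by
  classical
  by_contra ha
  obtain ⟨y, τ, hy, hτ, hτs⟩ := exists_mv (s := s ∪ {b, c, d}) (x := a) (by
    have h1 := Finset.card_union_le s {b, c, d}
    have h2 : ({b, c, d} : Finset (Fin n)).card ≤ 3 := Finset.card_le_three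
    omega) (by
    rw [Finset.mem_union, not_or]
    refine ⟨ha, ?_⟩
    simp [hab, hac, had])
  have h1 := hw τ fun i hi => hτs i (Finset.mem_union_left _ hi)
  have hb : (τ : Perm (Fin n)) b = b := hτs b (Finset.mem_union_right _ (by simp))
  have hc : (τ : Perm (Fin n)) c = c := hτs c (Finset.mem_union_right _ (by simp))
  have hd : (τ : Perm (Fin n)) d = d := hτs d (Finset.mem_union_right _ (by simp))
  rw [← hwe, map_add, h.act, h.act, hτ, hb, hc, hd] at h1
  have h2 : F y b = F a b := add_right_cancel h1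
  have h3 := h.tri y a b
  rw [h2] at h3
  exact F_ne h (by omega) hy (add_eq_right.1 h3)

/-- fixed points of elements of order 11 -/
theorem fix_of_small {g : Perm (Fin n)} (hg : g ^ 11 = 1) {S : Finset (Fin n)} (hS : ∀ x ∈ S, g x ∈ S)
    (hc : S.card ≤ 10) {x : Fin n} (hx : x ∈ S) : g x = x := by
  classical
  have h1 : Function.IsPeriodicPt g 11 x := by
    show g^[11] x = x
    rw [Perm.iterate_eq_pow, hg]
    rfl
  have h2 := h1.minimalPeriod_dvd
  rcases (Nat.dvd_prime (by norm_num : Nat.Prime 11)).1 h2 with h3 | h3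
  · exact Function.minimalPeriod_eq_one_iff_isFixedPt.1 h3
  · exfalso
    have h4 : ∀ i, g^[i] x ∈ S := by
      intro i
      induction i with
      | zero => exact hx
      | succ i ih =>
        rw [Function.iterate_succ_apply']
        exact hS _ ih
    have h5 := Finset.card_le_card_of_injOn (s := Finset.range 11) (t := S) (fun i => g^[i] x) (fun i _ => h4 i) (by
      intro i hi j hj hij
      refine Function.iterate_injOn_Iio_minimalPeriod (f := g) (x := x) ?_ ?_ hij
      · rw [h3]
        exact Finset.mem_range.1 hi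
      · rw [h3]
        exact Finset.mem_range.1 hj)
    rw [Finset.card_range] at h5
    omega

/-- **no elements of order 11 in the stabiliser of `e₀ - e₁ + e₂ - e₃`** -/
theorem no_eleven (h : NatM ρ F) (hn : n = 13 ∨ n = 14) :
    ∃ w : V, w ≠ 0 ∧ ∀ g : alternatingGroup (Fin n), ρ g w = w → g ^ 11 = 1 → g = 1 := by
  classical
  have hn13 : 13 ≤ n := by omega
  let e : Fin 4 → Fin n := fun i => ⟨i, by omega⟩
  have he : Function.Injective e := by
    intro i j hij
    have := congrArg Fin.val hij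
    exact Fin.ext this
  let S : Finset (Fin n) := Finset.univ.image e
  have hS4 : S.card = 4 := by
    rw [Finset.card_image_of_injective _ he]
    rfl
  have hmem : ∀ i, e i ∈ S := fun i => Finset.mem_image_of_mem _ (Finset.mem_univ i)
  have h01 : e 0 ≠ e 1 := he.ne (by decide)
  have h02 : e 0 ≠ e 2 := he.ne (by decide)
  have h03 : e 0 ≠ e 3 := he.ne (by decide)
  have h12 : e 1 ≠ e 2 := he.ne (by decide)
  have h13 : e 1 ≠ e 3 := he.ne (by decide)
  have h23 : e 2 ≠ e 3 := he.ne (by decide)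
  refine ⟨F (e 0) (e 1) + F (e 2) (e 3), ?_, ?_⟩
  · intro h0
    have := key h (by omega) (s := ∅) (by simp) (w := 0) (fun τ _ => map_zero _) h01 h02 h03 h0
    simp at this
  · intro g hgw hg
    have hw : ∀ τ : alternatingGroup (Fin n), (∀ i ∈ S, (τ : Perm (Fin n)) i = i) →
        ρ τ (F (e 0) (e 1) + F (e 2) (e 3)) = F (e 0) (e 1) + F (e 2) (e 3) := by
      intro τ hτ
      rw [map_add, h.act, h.act, hτ _ (hmem 0), hτ _ (hmem 1), hτ _ (hmem 2), hτ _ (hmem 3)]
    rw [map_add, h.act, h.act] at hgw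
    have gi := (g : Perm (Fin n)).injective
    have k0 := key h (by omega) hS4.le hw (gi.ne h01) (gi.ne h02) (gi.ne h03) hgw
    have k2 := key h (by omega) hS4.le hw (gi.ne h23) (gi.ne h02.symm) (gi.ne h12.symm) (by rw [add_comm]; exact hgw)
    have hanti : ∀ x y z t : Fin n, F x y + F z t = -(F y x + F t z) := by
      intro x y z t
      rw [h.anti x y, h.anti z t, neg_add, neg_neg, neg_neg]
    have hgw' : F ((g : Perm (Fin n)) (e 1)) ((g : Perm (Fin n)) (e 0)) +
        F ((g : Perm (Fin n)) (e 3)) ((g : Perm (Fin n)) (e 2)) = -(F (e 0) (e 1) + F (e 2) (e 3)) := by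
      rw [hanti, hgw]
    have hw' : ∀ τ : alternatingGroup (Fin n), (∀ i ∈ S, (τ : Perm (Fin n)) i = i) →
        ρ τ (-(F (e 0) (e 1) + F (e 2) (e 3))) = -(F (e 0) (e 1) + F (e 2) (e 3)) := by
      intro τ hτ
      rw [map_neg, hw τ hτ]
    have k1 := key h (by omega) hS4.le hw' (gi.ne h01.symm) (gi.ne h13) (gi.ne h12) hgw'
    have k3 := key h (by omega) hS4.le hw' (gi.ne h23.symm) (gi.ne h13.symm) (gi.ne h03.symm)
      (by rw [add_comm]; exact hgw')
    have hinv : ∀ x ∈ S, (g : Perm (Fin n)) x ∈ S := by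
      intro x hx
      obtain ⟨i, -, rfl⟩ := Finset.mem_image.1 hx
      fin_cases i
      · exact k0
      · exact k1
      · exact k2
      · exact k3
    have himg : S.image (g : Perm (Fin n)) = S := by
      refine Finset.eq_of_subset_of_card_le ?_ ?_
      · intro y hy
        obtain ⟨x, hx, rfl⟩ := Finset.mem_image.1 hy
        exact hinv x hx
      · rw [Finset.card_image_of_injective _ gi]
    have hinv' : ∀ x ∈ Sᶜ, (g : Perm (Fin n)) x ∈ Sᶜ := by
      intro x hx
      rw [Finset.mem_compl] at hx ⊢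
      intro hgx
      rw [← himg] at hgx
      obtain ⟨y, hy, hyx⟩ := Finset.mem_image.1 hgx
      rw [← gi hyx] at hx
      exact hx hy
    have hg' : (g : Perm (Fin n)) ^ 11 = 1 := by
      have := congrArg Subtype.val hg
      exact this
    apply Subtype.ext
    apply Equiv.ext
    intro x
    by_cases hx : x ∈ S
    · exact fix_of_small hg' hinv (by omega) hx
    · refine fix_of_small hg' hinv' ?_ (Finset.mem_compl.2 hx)
      rw [Finset.card_compl, Fintype.card_fin]
      omega

end Cfsg.Agent.H953.HTA
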