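import Cfsg.Agent.H953.HTA.B
import Cfsg.Agent.H953.HTA.D
import Cfsg.Agent.H953.HTA.F
import Cfsg.Agent.H735.HT.SieveAn
import Cfsg.Agent.H192.Ht.QLN
import Cfsg.Agent.S0892
import Cfsg.Agent.H189.AltSpinLow
import Cfsg.Agent.H614.AMod.Ten
import Cfsg.Agent.H614.AMod.Natural
import Cfsg.Agent.H348.HT.AltDead

/-!
# Half-transitive linear groups with a normal quasisimple subgroup over `A_n`, `n ≥ 9` (helper953, S3512)

`alt_row` : if `p` divides `|G|` then `G` is transitive.
-/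

set_option autoImplicit false
set_option linter.unusedSectionVars false

universe u w

namespace Cfsg.Agent.H953.HTA

open Equiv Equiv.Perm Module Cfsg.Agent.H614.AMod Cfsg.Agent.H828.HT Cfsg.Agent.H742.HT Cfsg.Agent.H391.HT
  Cfsg.Agent.H192.Ht Cfsg.Agent.H964.AltMod

variable {p : ℕ} [hp : Fact p.Prime] {K : Type w} [Field K] {V : Type u} [AddCommGroup V] [Module (ZMod p) V] [Finite V]
    [Module K V] {G L : Subgroup (V ≃ₗ[ZMod p] V)} {h : ℕ}

theorem charP (H : QL p K V G L h) : CharP K p := by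
  obtain ⟨v, hv⟩ := QN.exists_ne H
  have h1 : (p : K) = 0 := by
    have h2 : (p : ℕ) • v = 0 := by
      rw [← Nat.cast_smul_eq_nsmul (ZMod p), ZMod.natCast_self, zero_smul]
    rw [← Nat.cast_smul_eq_nsmul K] at h2
    exact (smul_eq_zero.1 h2).resolve_right hv
  obtain ⟨r, hr⟩ := CharP.exists K
  have h3 : r ∣ p := (CharP.cast_eq_zero_iff K r p).1 h1
  rcases (Nat.dvd_prime hp.out).1 h3 with rfl | rfl
  · exact absurd rfl (CharP.char_ne_one K 1)
  · exact hr

/-- the action of `L` -/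
def act (H : QL p K V G L h) : L →* End K V where
  toFun l :=
    { toFun := fun v => (l : V ≃ₗ[ZMod p] V) v
      map_add' := fun v w => map_add _ v w
      map_smul' := fun c v => H.lin l l.2 c v }
  map_one' := rfl
  map_mul' a b := rfl

theorem act_apply (H : QL p K V G L h) (l : L) (v : V) : act H l v = (l : V ≃ₗ[ZMod p] V) v := rfl

theorem act_injective (H : QL p K V G L h) : Function.Injective (act H) := by
  intro a b hab
  apply Subtype.ext
  apply LinearEquiv.ext
  intro v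
  exact LinearMap.congr_fun hab v

/-- the projection -/
def pr {n : ℕ} (e : (L ⧸ Subgroup.center L) ≃* alternatingGroup (Fin n)) : L →* alternatingGroup (Fin n) :=
  e.toMonoidHom.comp (QuotientGroup.mk' (Subgroup.center L))

theorem pr_surj {n : ℕ} (e : (L ⧸ Subgroup.center L) ≃* alternatingGroup (Fin n)) : Function.Surjective (pr e) :=
  e.surjective.comp (QuotientGroup.mk'_surjective _)

theorem pr_eq_one {n : ℕ} (e : (L ⧸ Subgroup.center L) ≃* alternatingGroup (Fin n)) {k : L} :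
    pr e k = 1 ↔ k ∈ Subgroup.center L := by
  show e (QuotientGroup.mk' _ k) = 1 ↔ _
  rw [e.map_eq_one_iff, ← MonoidHom.mem_ker, QuotientGroup.ker_mk']

theorem card_center (H : QL p K V G L h) {n : ℕ} (hn : 9 ≤ n)
    (e : (L ⧸ Subgroup.center L) ≃* alternatingGroup (Fin n)) : Nat.card (Subgroup.center L) ≤ 2 :=
  S0892.result n (by omega) (by omega) (by omega) (Subgroup.center L) le_rfl (by rw [H.perf]; exact le_top) e

theorem center_sq (H : QL p K V G L h) {n : ℕ} (hn : 9 ≤ n)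
    (e : (L ⧸ Subgroup.center L) ≃* alternatingGroup (Fin n)) {k : L} (hk : k ∈ Subgroup.center L) : k ^ 2 = 1 := by
  have h1 := card_center H hn e
  have h2 : 0 < Nat.card (Subgroup.center L) := Nat.card_pos
  have h3 : (⟨k, hk⟩ : Subgroup.center L) ^ Nat.card (Subgroup.center L) = 1 := pow_card_eq_one'
  have h4 : k ^ Nat.card (Subgroup.center L) = 1 := congrArg Subtype.val h3
  obtain h5 | h5 : Nat.card (Subgroup.center L) = 1 ∨ Nat.card (Subgroup.center L) = 2 := by omega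
  · rw [h5, pow_one] at h4
    rw [h4, one_pow]
  · rwa [h5] at h4

theorem cov (H : QL p K V G L h) {n : ℕ} (hn : 9 ≤ n) (e : (L ⧸ Subgroup.center L) ≃* alternatingGroup (Fin n)) :
    Cov n (pr e) where
  surj := pr_surj e
  ker k hk := by
    rw [pr_eq_one] at hk
    exact ⟨center_sq H hn e hk, fun g => (Subgroup.mem_center_iff.1 hk g).symm⟩

theorem le_finrank (H : QL p K V G L h) {n : ℕ} (hn : 9 ≤ n)
    (e : (L ⧸ Subgroup.center L) ≃* alternatingGroup (Fin n)) : n - 2 ≤ finrank K V := by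
  have := charP H
  have := QN.finiteDim H
  have h1 := H189.FeitTits.feit_tits (k := K) p (r := n) hn (pr e) (pr_surj e) (act H) (by
    intro g hg
    rw [act_injective H (hg.trans (map_one (act H)).symm), map_one])
  split_ifs at h1 <;> omega

/-- a subgroup of `L` with a fixed vector -/
theorem card_dvd_of_fixed (H : QL p K V G L h) (N : Subgroup L) {v : V} (hv : v ≠ 0)
    (hN : ∀ g ∈ N, act H g v = v) : Nat.card N ∣ h := by
  have h1 : Nat.card N = Nat.card (N.map L.subtype) :=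
    Nat.card_congr (N.equivMapOfInjective _ L.subtype_injective).toEquiv
  rw [h1]
  refine card_dvd_h H.half _ ?_ hv ?_
  · rintro _ ⟨g, -, rfl⟩
    exact H.le g.2
  · rintro _ ⟨g, hg, rfl⟩
    exact hN g hg

theorem card_alt {n : ℕ} (hn : 2 ≤ n) : 2 * Nat.card (alternatingGroup (Fin n)) = n.factorial := by
  have : Nontrivial (Fin n) := Fin.nontrivial_iff_two_le.2 hn
  rw [two_mul_nat_card_alternatingGroup, Nat.card_perm, Nat.card_eq_fintype_card, Fintype.card_fin]

/-- **the divisibility from the engine** -/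
theorem engine (H : QL p K V G L h) {n m : ℕ} (hn : 9 ≤ n)
    (e : (L ⧸ Subgroup.center L) ≃* alternatingGroup (Fin n)) (hm : m * h = Nat.card G) {l a : ℕ} (hl : l.Prime)
    (hl2 : l ≠ 2) (hlp : l ≠ p) (hr : l ^ (a + 1) + 9 ≤ n)
    (hd : finrank K V < Nat.totient (l ^ (a + 1)) * (n - l ^ (a + 1) - 2)) :
    m * (n - l ^ (a + 1)).factorial ∣ 2 * ((Nat.card K - 1) * n.factorial) := by
  have := charP H
  have := QN.finiteDim H
  obtain ⟨N, hN, v, hv, hNv⟩ := (cov H hn e).exists_fixed p hl hl2 hlp hr (act H) (act_injective H) hd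
  have h1 := hN.trans (card_dvd_of_fixed H N hv hNv)
  have h2 : Nat.card G ∣ (Nat.card K - 1) * n.factorial := by
    have h3 := QN.card_G_dvd H
    rwa [Nat.card_congr (MulAut.congr e).toEquiv, H348.HT.card_aut_alt n (by omega) (by omega)] at h3
  rw [← card_alt (n := n - l ^ (a + 1)) (by omega), mul_left_comm]
  refine Nat.mul_dvd_mul_left 2 ?_
  exact (Nat.mul_dvd_mul_left m h1).trans (by rw [hm]; exact h2)

/-- **large degree** -/
theorem no_big (H : QL p K V G L h) (hpG : p ∣ Nat.card G) (hT : ¬ Tr G) {n : ℕ} (hn : 71 ≤ n)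
    (e : (L ⧸ Subgroup.center L) ≃* alternatingGroup (Fin n)) : False := by
  obtain ⟨m, hm, hcp, -, -, hm0⟩ := QN.cp H hpG hT
  have hK := QN.two_le_card H
  refine large (p := p) (q := Nat.card K) (m := m) (w := finrank K V) hn hK ?_ (le_finrank H (by omega) e)
    hcp.le_two ?_ ?_
  · rintro rfl
    obtain ⟨k, hk, hk0⟩ := QN.exists_card H
    rw [hk]
    exact Nat.le_self_pow (by omega) 3
  · have h3 := QN.card_G_dvd H
    rw [Nat.card_congr (MulAut.congr e).toEquiv, H348.HT.card_aut_alt n (by omega) (by omega), ← hm] at h3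
    exact Nat.le_of_dvd (Nat.mul_pos (by omega) (Nat.factorial_pos n)) ((Dvd.intro _ rfl).trans h3)
  · intro l a hl hl2 hlp hr hd
    exact Nat.le_of_dvd (Nat.mul_pos (by norm_num) (Nat.mul_pos (by omega) (Nat.factorial_pos n)))
      (engine H (by omega) e hm hl hl2 hlp hr hd)

/-- the numerical cases -/
theorem cases (H : QL p K V G L h) (hpG : p ∣ Nat.card G) (hT : ¬ Tr G) {n : ℕ} (hn : 9 ≤ n) (hn' : n ≤ 70)
    (e : (L ⧸ Subgroup.center L) ≃* alternatingGroup (Fin n)) : ∃ m, m * h = Nat.card G ∧ Nat.card K = p ∧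
      ((p = 2 ∧ finrank K V = 12 ∧ n ≤ 14 ∧ m ∣ 4095) ∨ (p = 3 ∧ finrank K V = 12 ∧ (n = 13 ∨ n = 14) ∧ m = 7280) ∨
        (p = 2 ∧ finrank K V = 24 ∧ 17 ≤ n ∧ n ≤ 26 ∧ m = 69615)) := by
  obtain ⟨m, hm, hcp, -, -, hm0⟩ := QN.cp H hpG hT
  obtain ⟨k, hk, hk0⟩ := QN.exists_card H
  have h1 : Nat.card (L ⧸ Subgroup.center L) = n.factorial / 2 := by
    rw [Nat.card_congr e.toEquiv, ← card_alt (n := n) (by omega), Nat.mul_div_cancel_left _ (by norm_num)]
  have h2 : Nat.card (MulAut (L ⧸ Subgroup.center L)) = n.factorial := by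
    rw [Nat.card_congr (MulAut.congr e).toEquiv, H348.HT.card_aut_alt n (by omega) (by omega)]
  rw [h1, h2, hk] at hcp
  have hpn : p ≤ n := by
    have h3 := QN.card_G_dvd H
    rw [h2, hk] at h3
    rcases hp.out.dvd_mul.1 (hpG.trans h3) with h4 | h4
    · exfalso
      have h5 : p ∣ p ^ k := dvd_pow_self p (by omega)
      have h6 : 1 ≤ p ^ k := Nat.one_le_pow _ _ hp.out.pos
      have h7 := Nat.dvd_sub h5 h4
      rw [show p ^ k - (p ^ k - 1) = 1 by omega] at h7
      exact hp.out.one_lt.ne' (Nat.dvd_one.1 h7)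
    · exact (Nat.Prime.dvd_factorial hp.out).1 h4
  refine ⟨m, hm, ?_⟩
  rcases H735.HT.sieve_an hn hn' hp.out hpn (le_finrank H hn e) hk0 hcp with ⟨h3, h4, h5, h6, h7⟩ | ⟨h3, h4, h5, h6, h7⟩ |
    ⟨h3, h4, h5, h6, h7, h8⟩
  · exact ⟨by rw [hk, h4, pow_one], Or.inl ⟨h3, h5, h6, h7⟩⟩
  · exact ⟨by rw [hk, h4, pow_one], Or.inr (Or.inl ⟨h3, h5, h6, h7⟩)⟩
  · exact ⟨by rw [hk, h4, pow_one], Or.inr (Or.inr ⟨h3, h5, h6, h7, h8⟩)⟩

/-- `w = 24` -/
theorem no_24 {n m : ℕ} (h1 : 17 ≤ n) (h2 : n ≤ 26) (hm : m = 69615)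
    (h : m * (n - 5).factorial ∣ 2 * ((2 - 1) * n.factorial)) : False := by
  subst hm
  interval_cases n <;> revert h <;> decide +kernel

end Cfsg.Agent.H953.HTA
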